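import Groth.Prelude.Def_CechEdge
import Groth.Agent.Lib.CechPsh.LongExact
import Groth.Agent.Lib.CechPsh.Surj
import Mathlib.CategoryTheory.Sites.EqualizerSheafCondition
import Mathlib.Algebra.Homology.HomologySequenceLemmas
import Mathlib.Algebra.Homology.ConcreteCategory

/-!
# Basic facts on the Cech complex of a family over an object of a site
-/

set_option autoImplicit false
universe u

open CategoryTheory CategoryTheory.Limits Opposite

noncomputable section

namespace Groth.Agent.Lib.CechEdge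

open Groth.Agent.Lib.CechPsh.Vanish Groth.Agent.Lib.CechPsh.Surj Groth.Agent.Lib.CechPsh.LongExact

variable {C : Type u} [SmallCategory C] [HasPullbacks C] {U : C} {ι : Type u} (Y : ι → Over U)

theorem cx_shortExact {S : ShortComplex (Cᵒᵖ ⥤ AddCommGrpCat.{u})} (hS : S.ShortExact) :
    (S.map (_root_.CechEdge.cxFunctor Y)).ShortExact := by
  have hW : ∀ W, (S.map ((evaluation Cᵒᵖ AddCommGrpCat.{u}).obj W)).ShortExact := fun W =>
    hS.map_of_exact _
  refine HomologicalComplex.shortExact_of_degreewise_shortExact _ fun n => ?_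
  refine { exact := ?_, mono_f := ?_, epi_g := ?_ }
  · rw [ShortComplex.ab_exact_iff]
    intro x hx
    choose a ha using fun i => (ShortComplex.ab_exact_iff _).1 (hW (op (prd Y i).left)).exact
      (proj Y S.X₂ n i x) ((proj_cxMap Y S.g n i x).symm.trans
        ((congrArg (proj Y S.X₃ n i) hx).trans (map_zero _)))
    obtain ⟨y, hy⟩ := exists_cochain Y S.X₁ n a
    exact ⟨y, cochain_ext Y S.X₂ n fun i => (proj_cxMap Y S.f n i y).trans
      ((congrArg _ (hy i)).trans (ha i))⟩
  · refine (AddCommGrpCat.mono_iff_injective _).2 fun x y h => cochain_ext Y S.X₁ n fun i => ?_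
    exact (AddCommGrpCat.mono_iff_injective _).1 (hW _).mono_f ((proj_cxMap Y S.f n i x).symm.trans
      ((congrArg (proj Y S.X₂ n i) h).trans (proj_cxMap Y S.f n i y)))
  · refine (AddCommGrpCat.epi_iff_surjective _).2 fun z => ?_
    choose t ht using fun i => (AddCommGrpCat.epi_iff_surjective _).1 (hW (op (prd Y i).left)).epi_g
      (proj Y S.X₃ n i z)
    obtain ⟨y, hy⟩ := exists_cochain Y S.X₂ n t
    exact ⟨y, cochain_ext Y S.X₃ n fun i => (proj_cxMap Y S.g n i y).trans
      ((congrArg _ (hy i)).trans (ht i))⟩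

theorem cechHMap_comp {P Q R : Cᵒᵖ ⥤ AddCommGrpCat.{u}} (φ : P ⟶ Q) (ψ : Q ⟶ R) (p : ℕ)
    (x : CohCx.cechH P Y p) :
    _root_.CechEdge.cechHMap Y (φ ≫ ψ) p x =
      _root_.CechEdge.cechHMap Y ψ p (_root_.CechEdge.cechHMap Y φ p x) := by
  simp only [_root_.CechEdge.cechHMap, Functor.map_comp, HomologicalComplex.homologyMap_comp]
  rfl

theorem cechHMap_id (P : Cᵒᵖ ⥤ AddCommGrpCat.{u}) (p : ℕ) (x : CohCx.cechH P Y p) :
    _root_.CechEdge.cechHMap Y (𝟙 P) p x = x := by
  simp only [_root_.CechEdge.cechHMap, CategoryTheory.Functor.map_id, HomologicalComplex.homologyMap_id]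
  rfl

/-- A map bijective on the members of the nerve is bijective on Cech cohomology. -/
theorem cechHMap_bijective {P Q : Cᵒᵖ ⥤ AddCommGrpCat.{u}} (φ : P ⟶ Q)
    (hφ : ∀ (n : ℕ) (i : Fin (n + 1) → ι), Function.Bijective (φ.app (op (prd Y i).left))) (p : ℕ) :
    Function.Bijective (_root_.CechEdge.cechHMap Y φ p) := by
  have : ∀ n, IsIso (((_root_.CechEdge.cxFunctor Y).map φ).f n) := fun n => by
    rw [ConcreteCategory.isIso_iff_bijective]
    constructor
    · intro x y h
      exact cochain_ext Y P n fun i => (hφ n i).1 ((proj_cxMap Y φ n i x).symm.trans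
        ((congrArg (proj Y Q n i) h).trans (proj_cxMap Y φ n i y)))
    · intro z
      choose t ht using fun i => (hφ n i).2 (proj Y Q n i z)
      obtain ⟨y, hy⟩ := exists_cochain Y P n t
      exact ⟨y, cochain_ext Y Q n fun i => (proj_cxMap Y φ n i y).trans ((congrArg _ (hy i)).trans (ht i))⟩
  have : IsIso ((_root_.CechEdge.cxFunctor Y).map φ) := HomologicalComplex.Hom.isIso_of_components _
  exact (ConcreteCategory.isIso_iff_bijective
    (HomologicalComplex.homologyMap ((_root_.CechEdge.cxFunctor Y).map φ) p)).1 inferInstance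

/-- Cycles of degree zero are the degree zero cohomology. -/
theorem bijective_homologyπ_zero (P : Cᵒᵖ ⥤ AddCommGrpCat.{u}) :
    Function.Bijective ((_root_.CechEdge.cx P Y).homologyπ 0) := by
  have : IsIso ((_root_.CechEdge.cx P Y).homologyπ 0) := CochainComplex.isIso_homologyπ₀ _
  exact (ConcreteCategory.isIso_iff_bijective _).1 inferInstance

theorem injective_iCycles (P : Cᵒᵖ ⥤ AddCommGrpCat.{u}) (n : ℕ) :
    Function.Injective ((_root_.CechEdge.cx P Y).iCycles n) :=
  (AddCommGrpCat.mono_iff_injective _).1 inferInstance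

theorem iCycles_toCycles (P : Cᵒᵖ ⥤ AddCommGrpCat.{u}) (s : P.obj (op U)) :
    (_root_.CechEdge.cx P Y).iCycles 0 (_root_.CechEdge.toCycles P Y s) = _root_.CechEdge.toCech₀ P Y s :=
  ConcreteCategory.congr_hom (_root_.CechEdge.toCycles_i P Y) s

theorem proj_toCech₀ (P : Cᵒᵖ ⥤ AddCommGrpCat.{u}) (s : P.obj (op U)) (i : Fin 1 → ι) :
    proj Y P 0 i (_root_.CechEdge.toCech₀ P Y s) = P.map (prd Y i).hom.op s :=
  ConcreteCategory.congr_hom (Pi.lift_π (fun i : Fin 1 → ι => P.map (∏ᶜ (Y ∘ i)).hom.op) i) s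

theorem cechHMap_homologyπ {P Q : Cᵒᵖ ⥤ AddCommGrpCat.{u}} (φ : P ⟶ Q) (n : ℕ)
    (z : (_root_.CechEdge.cx P Y).cycles n) :
    _root_.CechEdge.cechHMap Y φ n ((_root_.CechEdge.cx P Y).homologyπ n z) =
      (_root_.CechEdge.cx Q Y).homologyπ n
        (HomologicalComplex.cyclesMap ((_root_.CechEdge.cxFunctor Y).map φ) n z) :=
  ConcreteCategory.congr_hom
    (HomologicalComplex.homologyπ_naturality ((_root_.CechEdge.cxFunctor Y).map φ) n) z

theorem toCech_apply (P : Cᵒᵖ ⥤ AddCommGrpCat.{u}) (s : P.obj (op U)) :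
    _root_.CechEdge.toCech Y P s = (_root_.CechEdge.cx P Y).homologyπ 0 (_root_.CechEdge.toCycles P Y s) :=
  rfl

theorem iCycles_cyclesMap {P Q : Cᵒᵖ ⥤ AddCommGrpCat.{u}} (φ : P ⟶ Q) (n : ℕ)
    (z : (_root_.CechEdge.cx P Y).cycles n) :
    (_root_.CechEdge.cx Q Y).iCycles n (HomologicalComplex.cyclesMap ((_root_.CechEdge.cxFunctor Y).map φ) n z) =
      ((_root_.CechEdge.cxFunctor Y).map φ).f n ((_root_.CechEdge.cx P Y).iCycles n z) :=
  ConcreteCategory.congr_hom (HomologicalComplex.cyclesMap_i ((_root_.CechEdge.cxFunctor Y).map φ) n) z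

/-- Restriction of sections is natural. -/
theorem cechHMap_toCech {P Q : Cᵒᵖ ⥤ AddCommGrpCat.{u}} (φ : P ⟶ Q) (s : P.obj (op U)) :
    _root_.CechEdge.cechHMap Y φ 0 (_root_.CechEdge.toCech Y P s) =
      _root_.CechEdge.toCech Y Q (φ.app (op U) s) := by
  change _root_.CechEdge.cechHMap Y φ 0
    ((_root_.CechEdge.cx P Y).homologyπ 0 (_root_.CechEdge.toCycles P Y s)) =
    (_root_.CechEdge.cx Q Y).homologyπ 0 (_root_.CechEdge.toCycles Q Y (φ.app (op U) s))
  rw [cechHMap_homologyπ]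
  refine congrArg _ (injective_iCycles Y Q 0 ?_)
  rw [iCycles_toCycles, iCycles_cyclesMap, iCycles_toCycles]
  refine cochain_ext Y Q 0 fun i => ?_
  refine (proj_cxMap Y φ 0 i _).trans ?_
  rw [proj_toCech₀, proj_toCech₀]
  exact NatTrans.naturality_apply φ (prd Y i).hom.op s

/-- A map injective on the members of the nerve is injective on cohomology of degree zero. -/
theorem cechHMap_zero_injective {P Q : Cᵒᵖ ⥤ AddCommGrpCat.{u}} (φ : P ⟶ Q)
    (hφ : ∀ i : Fin 1 → ι, Function.Injective (φ.app (op (prd Y i).left))) :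
    Function.Injective (_root_.CechEdge.cechHMap Y φ 0) := by
  intro x y h
  obtain ⟨x, rfl⟩ := (bijective_homologyπ_zero Y P).2 x
  obtain ⟨y, rfl⟩ := (bijective_homologyπ_zero Y P).2 y
  rw [cechHMap_homologyπ, cechHMap_homologyπ] at h
  have h' := congrArg ((_root_.CechEdge.cx Q Y).iCycles 0) ((bijective_homologyπ_zero Y Q).1 h)
  rw [iCycles_cyclesMap, iCycles_cyclesMap] at h'
  refine congrArg _ (injective_iCycles Y P 0 (cochain_ext Y P 0 fun i => hφ i ?_))
  exact (proj_cxMap Y φ 0 i _).symm.trans ((congrArg (proj Y Q 0 i) h').trans (proj_cxMap Y φ 0 i _))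

/-- Degree zero cocycles are compatible families. -/
theorem exists_compatible (P : Cᵒᵖ ⥤ AddCommGrpCat.{u}) (x : (_root_.CechEdge.cx P Y).X 0)
    (hx : (_root_.CechEdge.cx P Y).d 0 1 x = 0) :
    ∃ b : ∀ j, P.obj (op (Y j).left),
      Presieve.Arrows.Compatible (P ⋙ forget AddCommGrpCat) (fun j => (Y j).hom) b ∧
        ∀ l : Fin 1 → ι, proj Y P 0 l x = P.map (Pi.π (Y ∘ l) 0).left.op (b (l 0)) := by
  let b : ∀ j, P.obj (op (Y j).left) := fun j =>
    P.map ((Pi.lift fun _ : Fin 1 => 𝟙 (Y j)) :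
      Y j ⟶ prd Y (fun _ : Fin 1 => j)).left.op (proj Y P 0 (fun _ => j) x)
  have hb : ∀ l : Fin 1 → ι, proj Y P 0 l x = P.map (Pi.π (Y ∘ l) 0).left.op (b (l 0)) :=
    fun l => eq_res_proj Y (fun l => proj Y P 0 l x) l
  refine ⟨b, ?_, hb⟩
  intro i j Z gi gj hg
  let k : Fin 2 → ι := Fin.cases j (fun _ => i)
  have h1 := proj_d_apply Y P 0 k x
  erw [hx, map_zero] at h1
  have hface : ∀ c : Fin 2, P.map (face Y k c).left.op (proj Y P 0 (k ∘ c.succAbove) x) =
      P.map (Pi.π (Y ∘ k) (c.succAbove 0)).left.op (b (k (c.succAbove 0))) := fun c => by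
    rw [hb (k ∘ c.succAbove)]
    exact (res_res _ _ _).trans (res_congr ((Over.comp_left _ _ _ _ _).symm.trans
      (congrArg Over.Hom.left (Pi.lift_π _ 0))) _)
  rw [Fin.sum_univ_two, hface 0, hface 1] at h1
  simp only [Fin.val_zero, pow_zero, one_smul, Fin.val_one, pow_one, neg_smul, ← sub_eq_add_neg] at h1
  have h2 : P.map (Pi.π (Y ∘ k) 1).left.op (b (k 1)) = P.map (Pi.π (Y ∘ k) 0).left.op (b (k 0)) :=
    sub_eq_zero.1 h1.symm
  let ai : Over.mk (gi ≫ (Y i).hom) ⟶ Y i := Over.homMk gi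
  let aj : Over.mk (gi ≫ (Y i).hom) ⟶ Y j := Over.homMk gj hg.symm
  let m : Over.mk (gi ≫ (Y i).hom) ⟶ prd Y k :=
    Pi.lift (Fin.cases (motive := fun c => Over.mk (gi ≫ (Y i).hom) ⟶ (Y ∘ k) c) aj (fun _ => ai))
  have h := congrArg (P.map m.left.op) h2
  have e₁ : m.left ≫ (Pi.π (Y ∘ k) 1).left = gi :=
    (Over.comp_left _ _ _ _ _).symm.trans (congrArg Over.Hom.left (Pi.lift_π _ _))
  have e₀ : m.left ≫ (Pi.π (Y ∘ k) 0).left = gj :=
    (Over.comp_left _ _ _ _ _).symm.trans (congrArg Over.Hom.left (Pi.lift_π _ _))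
  exact ((res_congr (P := P) e₁ (b i)).symm.trans ((res_res _ _ _).symm.trans (h.trans (res_res _ _ _)))).trans
    (res_congr (P := P) e₀ (b j))

theorem toCech_injective_iff (P : Cᵒᵖ ⥤ AddCommGrpCat.{u}) :
    Function.Injective (_root_.CechEdge.toCech Y P) ↔
      ∀ s t : P.obj (op U), (∀ i, P.map (Y i).hom.op s = P.map (Y i).hom.op t) → s = t := by
  have key : ∀ s t : P.obj (op U), _root_.CechEdge.toCech Y P s = _root_.CechEdge.toCech Y P t ↔
      ∀ i, P.map (Y i).hom.op s = P.map (Y i).hom.op t := by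
    intro s t
    rw [toCech_apply, toCech_apply]
    refine (bijective_homologyπ_zero Y P).1.eq_iff.trans ?_
    refine (injective_iCycles Y P 0).eq_iff.symm.trans ?_
    rw [iCycles_toCycles, iCycles_toCycles]
    constructor
    · intro h i
      have h' := congrArg (fun z => P.map ((Pi.lift fun _ : Fin 1 => 𝟙 (Y i)) :
        Y i ⟶ prd Y (fun _ : Fin 1 => i)).left.op (proj Y P 0 (fun _ => i) z)) h
      simp only [proj_toCech₀, res_res, Over.w] at h'
      exact h'
    · intro h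
      refine cochain_ext Y P 0 fun l => ?_
      rw [proj_toCech₀, proj_toCech₀, ← res_congr (Over.w (Pi.π (Y ∘ l) 0)) s,
        ← res_congr (Over.w (Pi.π (Y ∘ l) 0)) t, ← res_res, ← res_res]
      exact congrArg _ (h (l 0))
  exact ⟨fun h s t hst => h ((key s t).2 hst), fun h s t hst => h s t ((key s t).1 hst)⟩

theorem toCech_bijective_iff (P : Cᵒᵖ ⥤ AddCommGrpCat.{u}) :
    Function.Bijective (_root_.CechEdge.toCech Y P) ↔
      (Presieve.ofArrows (fun i => (Y i).left) (fun i => (Y i).hom)).IsSheafFor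
        (P ⋙ forget AddCommGrpCat) := by
  rw [Presieve.isSheafFor_arrows_iff, Function.Bijective, toCech_injective_iff]
  constructor
  · rintro ⟨hinj, hsurj⟩ b hb
    obtain ⟨x, hx⟩ := exists_cochain Y P 0 fun l => P.map (Pi.π (Y ∘ l) 0).left.op (b (l 0))
    have hd : (_root_.CechEdge.cx P Y).d 0 1 x = 0 := by
      refine cochain_ext Y P 1 fun k => ?_
      rw [proj_d_apply]
      erw [map_zero]
      have hface : ∀ c : Fin 2, P.map (face Y k c).left.op (proj Y P 0 (k ∘ c.succAbove) x) =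
          P.map (Pi.π (Y ∘ k) (c.succAbove 0)).left.op (b (k (c.succAbove 0))) := fun c => by
        rw [hx]
        exact (res_res _ _ _).trans (res_congr ((Over.comp_left _ _ _ _ _).symm.trans
          (congrArg Over.Hom.left (Pi.lift_π _ 0))) _)
      rw [Fin.sum_univ_two, hface 0, hface 1]
      simp only [Fin.val_zero, pow_zero, one_smul, Fin.val_one, pow_one, neg_smul, ← sub_eq_add_neg]
      refine sub_eq_zero.2 (hb _ _ _ (Pi.π (Y ∘ k) 1).left (Pi.π (Y ∘ k) 0).left ?_)
      exact (Over.w (Pi.π (Y ∘ k) 1)).trans (Over.w (Pi.π (Y ∘ k) 0)).symm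
    obtain ⟨z, hz⟩ : ∃ z, (_root_.CechEdge.cx P Y).iCycles 0 z = x :=
      ⟨((_root_.CechEdge.cx P Y).sc 0).abCyclesIso.inv ⟨x, by
        show (_root_.CechEdge.cx P Y).d 0 ((ComplexShape.up ℕ).next 0) x = 0
        rw [CochainComplex.next ℕ 0]
        exact hd⟩, ShortComplex.abCyclesIso_inv_apply_iCycles _ _⟩
    obtain ⟨s, hs⟩ := hsurj ((_root_.CechEdge.cx P Y).homologyπ 0 z)
    rw [toCech_apply] at hs
    have hs' := congrArg ((_root_.CechEdge.cx P Y).iCycles 0) ((bijective_homologyπ_zero Y P).1 hs)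
    rw [iCycles_toCycles, hz] at hs'
    have hsb : ∀ i, P.map (Y i).hom.op s = b i := fun i => by
      have h' := congrArg (fun z => P.map ((Pi.lift fun _ : Fin 1 => 𝟙 (Y i)) :
        Y i ⟶ prd Y (fun _ : Fin 1 => i)).left.op (proj Y P 0 (fun _ => i) z)) hs'
      simp only [proj_toCech₀, hx, res_res, Over.w] at h'
      refine h'.trans ?_
      refine (res_congr ((Over.comp_left _ _ _ _ _).symm.trans
        (congrArg Over.Hom.left (Pi.lift_π _ 0))) _).trans ?_
      exact ConcreteCategory.congr_hom (P.map_id _) _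
    exact ⟨s, hsb, fun t ht => hinj t s fun i => (ht i).trans (hsb i).symm⟩
  · intro h
    refine ⟨fun s t hst => ?_, fun y => ?_⟩
    · exact (h (fun i => P.map (Y i).hom.op t) (fun i j Z gi gj hg =>
        (res_res _ _ _).trans ((res_congr hg t).trans (res_res _ _ _).symm))).unique hst fun i => rfl
    · obtain ⟨z, rfl⟩ := (bijective_homologyπ_zero Y P).2 y
      obtain ⟨b, hb, hz⟩ := exists_compatible Y P ((_root_.CechEdge.cx P Y).iCycles 0 z)
        (ConcreteCategory.congr_hom ((_root_.CechEdge.cx P Y).iCycles_d 0 1) z)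
      obtain ⟨s, hs, -⟩ := h b hb
      refine ⟨s, (toCech_apply Y P s).trans (congrArg _ (injective_iCycles Y P 0 ?_))⟩
      rw [iCycles_toCycles]
      refine cochain_ext Y P 0 fun l => ?_
      rw [proj_toCech₀, hz, ← res_congr (Over.w (Pi.π (Y ∘ l) 0)) s, ← res_res]
      exact congrArg _ (hs (l 0))

theorem toCech_bijective_of_isSheaf (J : GrothendieckTopology C) {P : Cᵒᵖ ⥤ AddCommGrpCat.{u}}
    (hP : Presheaf.IsSheaf J P)
    (hY : Sieve.ofArrows (fun i => (Y i).left) (fun i => (Y i).hom) ∈ J U) :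
    Function.Bijective (_root_.CechEdge.toCech Y P) := by
  rw [toCech_bijective_iff]
  exact (Presieve.isSheafFor_iff_generate _).2
    ((isSheaf_iff_isSheaf_of_type _ _).1
      (Presheaf.isSheaf_comp_of_isSheaf J P (forget AddCommGrpCat) hP) _ hY)

end Groth.Agent.Lib.CechEdge
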