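import Groth.Agent.Lib.CechEdge.Zero
import Mathlib.CategoryTheory.Abelian.GrothendieckCategory.EnoughInjectives

/-!
# Existence and uniqueness of edge families
-/

set_option autoImplicit false
universe u

open CategoryTheory CategoryTheory.Limits Opposite Abelian

noncomputable section

namespace Groth.Agent.Lib.CechEdge

open _root_.CechEdge (shf shfMap HUmap sectH0 extδ edgeSh IsEdge cxFunctor cechHMap)

variable {C : Type u} [SmallCategory C] {J : GrothendieckTopology C}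

theorem exists_injective (P : Cᵒᵖ ⥤ AddCommGrpCat.{u}) :
    ∃ (I : Cᵒᵖ ⥤ AddCommGrpCat.{u}) (i : P ⟶ I), Injective I ∧ Mono i := by
  let J₀ : GrothendieckTopology C := ⊥
  have hP : Presheaf.IsSheaf J₀ P :=
    fun _ => Presieve.isSheaf_bot
  let F : Sheaf J₀ AddCommGrpCat.{u} := ⟨P, hP⟩
  refine ⟨(sheafToPresheaf J₀ AddCommGrpCat.{u}).obj (Injective.under F),
    (sheafToPresheaf J₀ AddCommGrpCat.{u}).map (Injective.ι F), ?_, ?_⟩
  · exact Injective.injective_of_adjoint (sheafificationAdjunction J₀ AddCommGrpCat.{u}) _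
  · infer_instance

/-- A presheaf embedded into an injective one. -/
def emb (P : Cᵒᵖ ⥤ AddCommGrpCat.{u}) : ShortComplex (Cᵒᵖ ⥤ AddCommGrpCat.{u}) :=
  ShortComplex.mk (exists_injective P).choose_spec.choose
    (cokernel.π (exists_injective P).choose_spec.choose) (cokernel.condition _)

theorem injective_emb (P : Cᵒᵖ ⥤ AddCommGrpCat.{u}) : Injective (emb P).X₂ :=
  (exists_injective P).choose_spec.choose_spec.1

theorem emb_shortExact (P : Cᵒᵖ ⥤ AddCommGrpCat.{u}) : (emb P).ShortExact :=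
  { exact := ShortComplex.exact_of_g_is_cokernel _ (cokernelIsCokernel _)
    mono_f := (exists_injective P).choose_spec.choose_spec.2
    epi_g := by dsimp [emb]; infer_instance }

/-- Maps of short exact sequences into one with injective middle term. -/
theorem exists_hom {S T : ShortComplex (Cᵒᵖ ⥤ AddCommGrpCat.{u})} (hS : S.ShortExact) [Injective T.X₂]
    (φ : S.X₁ ⟶ T.X₁) : ∃ m : S ⟶ T, m.τ₁ = φ := by
  have := hS.mono_f
  let τ₂ := Injective.factorThru (φ ≫ T.f) S.f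
  have h₂ : S.f ≫ τ₂ = φ ≫ T.f := Injective.comp_factorThru _ _
  have hd := hS.gIsCokernel
  refine ⟨{ τ₁ := φ, τ₂ := τ₂,
            τ₃ := hd.desc (CokernelCofork.ofπ (τ₂ ≫ T.g) (by rw [← Category.assoc, h₂, Category.assoc, T.zero, comp_zero]))
            comm₁₂ := h₂.symm, comm₂₃ := ?_ }, rfl⟩
  exact (hd.fac (CokernelCofork.ofπ (τ₂ ≫ T.g) _) WalkingParallelPair.one).symm

theorem extδ_naturality {S T : ShortComplex (Sheaf J AddCommGrpCat.{u})} (hS : S.ShortExact) (hT : T.ShortExact)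
    (m : S ⟶ T) (U : C) (p : ℕ) (x : CohSite.HU S.X₃ p U) :
    HUmap m.τ₁ (p + 1) U (extδ hS U p x) = extδ hT U p (HUmap m.τ₃ p U x) := by
  rw [HUmap_apply, HUmap_apply]
  refine (Ext.comp_assoc_of_third_deg_zero _ _ _ rfl).trans ?_
  rw [ShortComplex.ShortExact.extClass_naturality hS hT m]
  exact (Ext.comp_assoc_of_second_deg_zero _ _ _ rfl).symm

theorem extδ_comp {S : ShortComplex (Sheaf J AddCommGrpCat.{u})} (hS : S.ShortExact) (U : C) (p : ℕ)
    (z : CohSite.HU S.X₂ p U) : extδ hS U p (HUmap S.g p U z) = 0 := by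
  rw [HUmap_apply]
  refine (Ext.comp_assoc_of_second_deg_zero _ _ _ rfl).trans ?_
  rw [ShortComplex.ShortExact.comp_extClass]
  exact Ext.comp_zero (z : Ext (CohCx.freeSheaf J U) S.X₂ p) _ _ _ _

variable [HasPullbacks C] {U : C} {ι : Type u} {Y : ι → Over U}

variable (Y) in
/-- The connecting map of Cech cohomology of a short exact sequence of presheaves. -/
def cδ {S : ShortComplex (Cᵒᵖ ⥤ AddCommGrpCat.{u})} (hS : S.ShortExact) (p : ℕ) :
    CohCx.cechH S.X₃ Y p →+ CohCx.cechH S.X₁ Y (p + 1) :=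
  ((cx_shortExact Y hS).δ p (p + 1) rfl).hom

theorem cδ_naturality {S T : ShortComplex (Cᵒᵖ ⥤ AddCommGrpCat.{u})} (hS : S.ShortExact) (hT : T.ShortExact)
    (m : S ⟶ T) (p : ℕ) (x : CohCx.cechH S.X₃ Y p) :
    cechHMap Y m.τ₁ (p + 1) (cδ Y hS p x) = cδ Y hT p (cechHMap Y m.τ₃ p x) :=
  ConcreteCategory.congr_hom (HomologicalComplex.HomologySequence.δ_naturality
    ((cxFunctor Y).mapShortComplex.map m) (cx_shortExact Y hS) (cx_shortExact Y hT) p (p + 1) rfl) x

theorem cδ_surjective (P : Cᵒᵖ ⥤ AddCommGrpCat.{u}) (p : ℕ) :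
    Function.Surjective (cδ Y (emb_shortExact P) p) := by
  intro x
  have := injective_emb P
  have h := (cx_shortExact Y (emb_shortExact P)).homology_exact₁ p (p + 1) rfl
  exact (ShortComplex.ab_exact_iff _).1 h x
    ((AddCommGrpCat.subsingleton_of_isZero
      (Groth.Agent.Lib.CechPsh.Vanish.isZero_cechH Y (emb P).X₂ p)).elim _ _)

theorem cδ_eq_zero {S : ShortComplex (Cᵒᵖ ⥤ AddCommGrpCat.{u})} (hS : S.ShortExact) (p : ℕ)
    (x : CohCx.cechH S.X₃ Y p) (hx : cδ Y hS p x = 0) : ∃ z, cechHMap Y S.g p z = x :=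
  (ShortComplex.ab_exact_iff _).1 ((cx_shortExact Y hS).homology_exact₃ p (p + 1) rfl) x hx

theorem cδ_comp {S : ShortComplex (Cᵒᵖ ⥤ AddCommGrpCat.{u})} (hS : S.ShortExact) (p : ℕ)
    (z : CohCx.cechH S.X₂ Y p) : cδ Y hS p (cechHMap Y S.g p z) = 0 :=
  ConcreteCategory.congr_hom ((cx_shortExact Y hS).comp_δ p (p + 1) rfl) z

variable (J Y) in
/-- A natural comparison map in one degree. -/
structure Lvl (p : ℕ) where
  /-- the map -/
  f : ∀ P : Cᵒᵖ ⥤ AddCommGrpCat.{u}, CohCx.cechH P Y p →+ CohSite.HU (shf J P) p U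
  nat : ∀ {P Q : Cᵒᵖ ⥤ AddCommGrpCat.{u}} (φ : P ⟶ Q) (x : CohCx.cechH P Y p),
    f Q (cechHMap Y φ p x) = HUmap (shfMap J φ) p U (f P x)

/-- Compatibility of two degrees with the connecting maps. -/
def DeltaCompat {p : ℕ} (a : Lvl J Y p) (b : Lvl J Y (p + 1)) : Prop :=
  ∀ (S : ShortComplex (Cᵒᵖ ⥤ AddCommGrpCat.{u})) (hS : S.ShortExact) (x : CohCx.cechH S.X₃ Y p),
    b.f S.X₁ (cδ Y hS p x) = extδ (hS.map_of_exact (presheafToSheaf J AddCommGrpCat.{u})) U p (a.f S.X₃ x)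

set_option maxHeartbeats 1000000 in
theorem exists_succ {p : ℕ} (a : Lvl J Y p) : ∃ b : Lvl J Y (p + 1), DeltaCompat a b := by
  let hE := fun P : Cᵒᵖ ⥤ AddCommGrpCat.{u} => (emb_shortExact P).map_of_exact (presheafToSheaf J AddCommGrpCat.{u})
  let g : ∀ P : Cᵒᵖ ⥤ AddCommGrpCat.{u}, CohCx.cechH (emb P).X₃ Y p →+ CohSite.HU (shf J P) (p + 1) U :=
    fun P => (extδ (hE P) U p).comp (a.f (emb P).X₃)
  have hker : ∀ P, (cδ Y (emb_shortExact P) p).ker ≤ (g P).ker := fun P x hx => by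
    obtain ⟨z, rfl⟩ := cδ_eq_zero (emb_shortExact P) p x hx
    show extδ (hE P) U p (a.f (emb P).X₃ (cechHMap Y (emb P).g p z)) = 0
    rw [a.nat]
    exact extδ_comp (hE P) U p (a.f (emb P).X₂ z)
  let f : ∀ P : Cᵒᵖ ⥤ AddCommGrpCat.{u}, CohCx.cechH P Y (p + 1) →+ CohSite.HU (shf J P) (p + 1) U :=
    fun P => (cδ Y (emb_shortExact P) p).liftOfSurjective (cδ_surjective P p) ⟨g P, hker P⟩
  have hf : ∀ P y, f P (cδ Y (emb_shortExact P) p y) = extδ (hE P) U p (a.f (emb P).X₃ y) := fun P y =>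
    (cδ Y (emb_shortExact P) p).liftOfRightInverse_comp_apply _ _ ⟨g P, hker P⟩ y
  have key : ∀ (S : ShortComplex (Cᵒᵖ ⥤ AddCommGrpCat.{u})) (hS : S.ShortExact) (Q : Cᵒᵖ ⥤ AddCommGrpCat.{u})
      (φ : S.X₁ ⟶ Q) (x : CohCx.cechH S.X₃ Y p),
      f Q (cechHMap Y φ (p + 1) (cδ Y hS p x)) =
        HUmap (shfMap J φ) (p + 1) U
          (extδ (hS.map_of_exact (presheafToSheaf J AddCommGrpCat.{u})) U p (a.f S.X₃ x)) := by
    intro S hS Q φ x
    have := injective_emb Q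
    obtain ⟨m, hm⟩ := exists_hom (T := emb Q) hS φ
    subst hm
    refine (congrArg (f Q) (cδ_naturality hS (emb_shortExact Q) m p x)).trans
      ((hf Q _).trans ((congrArg (extδ (hE Q) U p) (a.nat m.τ₃ x)).trans ?_))
    exact (extδ_naturality (hS.map_of_exact (presheafToSheaf J AddCommGrpCat.{u})) (hE Q)
      ((presheafToSheaf J AddCommGrpCat.{u}).mapShortComplex.map m) U p (a.f S.X₃ x)).symm
  refine ⟨⟨f, fun {P Q} φ x => ?_⟩, fun S hS x => ?_⟩
  · obtain ⟨y, rfl⟩ := cδ_surjective P p x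
    exact (key (emb P) (emb_shortExact P) Q φ y).trans (congrArg (HUmap (shfMap J φ) (p + 1) U) (hf P y).symm)
  · have h1 : shfMap J (𝟙 S.X₁) = 𝟙 (shf J S.X₁) := (presheafToSheaf J AddCommGrpCat.{u}).map_id _
    refine (congrArg (f S.X₁) (cechHMap_id Y S.X₁ (p + 1) (cδ Y hS p x)).symm).trans
      ((key S hS S.X₁ (𝟙 _) x).trans ?_)
    refine (DFunLike.congr_fun (congrArg (fun ψ => HUmap ψ (p + 1) U) h1) _).trans ?_
    exact HUmap_id (p + 1) U _

variable (J Y) in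
/-- The comparison maps in all degrees. -/
def lvl (hY : Sieve.ofArrows (fun i => (Y i).left) (fun i => (Y i).hom) ∈ J U) : ∀ p, Lvl J Y p
  | 0 => ⟨e0 J hY, fun φ x => e0_natural hY φ x⟩
  | p + 1 => (exists_succ (lvl hY p)).choose

theorem exists_isEdge (hY : Sieve.ofArrows (fun i => (Y i).left) (fun i => (Y i).hom) ∈ J U) :
    ∃ e : ∀ (P : Cᵒᵖ ⥤ AddCommGrpCat.{u}) (p : ℕ), CohCx.cechH P Y p →+ CohSite.HU (shf J P) p U,
      IsEdge J Y e :=
  ⟨fun P p => (lvl J Y hY p).f P,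
    { cover := hY
      zero := fun P s => e0_toCech hY P s
      natural := fun P Q φ p x => (lvl J Y hY p).nat φ x
      delta := fun S hS _ p x => (exists_succ (lvl J Y hY p)).choose_spec S hS x }⟩

theorem edge_delta {e : ∀ (P : Cᵒᵖ ⥤ AddCommGrpCat.{u}) (p : ℕ), CohCx.cechH P Y p →+ CohSite.HU (shf J P) p U}
    (he : IsEdge J Y e) {S : ShortComplex (Cᵒᵖ ⥤ AddCommGrpCat.{u})} (hS : S.ShortExact) (p : ℕ)
    (x : CohCx.cechH S.X₃ Y p) :
    e S.X₁ (p + 1) (cδ Y hS p x) =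
      extδ (hS.map_of_exact (presheafToSheaf J AddCommGrpCat.{u})) U p (e S.X₃ p x) :=
  he.delta S hS (cx_shortExact Y hS) p x

theorem edge_unique {e e' : ∀ (P : Cᵒᵖ ⥤ AddCommGrpCat.{u}) (p : ℕ), CohCx.cechH P Y p →+ CohSite.HU (shf J P) p U}
    (he : IsEdge J Y e) (he' : IsEdge J Y e') : e = e' := by
  funext P p
  induction p generalizing P with
  | zero => exact AddMonoidHom.ext fun x => (edge_zero he P x).trans (edge_zero he' P x).symm
  | succ p ih =>
    refine AddMonoidHom.ext fun x => ?_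
    obtain ⟨y, rfl⟩ := cδ_surjective P p x
    exact (edge_delta he (emb_shortExact P) p y).trans
      ((congrArg _ (DFunLike.congr_fun (ih (emb P).X₃) y)).trans (edge_delta he' (emb_shortExact P) p y).symm)

end Groth.Agent.Lib.CechEdge
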