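import Groth.Agent.Lib.CechEdge.Edge

/-!
# Edge families and refinements of coverings
-/

set_option autoImplicit false
universe u

open CategoryTheory CategoryTheory.Limits Opposite Abelian

noncomputable section

namespace Groth.Agent.Lib.CechEdge

open _root_.CechEdge (shf shfMap HUmap sectH0 extδ edgeSh IsEdge cechHMap cxFunctor toCech₀ toCycles toCech cx)
open Groth.Agent.Lib.CechPsh.Vanish (prd proj cochain_ext)

variable {C : Type u} [SmallCategory C] [HasPullbacks C] {J : GrothendieckTopology C} {U : C}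
  {ι κ : Type u} {Y : ι → Over U} {Y' : κ → Over U}
  (f : FormalCoproduct.mk ι Y ⟶ FormalCoproduct.mk κ Y')

theorem cechRefine_naturality {P Q : Cᵒᵖ ⥤ AddCommGrpCat.{u}} (φ : P ⟶ Q) :
    CohCx.cechRefine P f ≫ (cxFunctor Y).map φ = (cxFunctor Y').map φ ≫ CohCx.cechRefine Q f := by
  dsimp only [CohCx.cechRefine, cxFunctor, cechComplexFunctor, FormalCoproduct.cochainComplexFunctor,
    Functor.comp_map, Functor.comp_obj]
  erw [← Functor.map_comp, ← Functor.map_comp]
  congr 1
  exact (((Functor.whiskeringLeft _ _ _).map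
    (NatTrans.rightOp (FormalCoproduct.cechFunctor.map f))).naturality
      ((FormalCoproduct.evalOp.{u} (Over U) AddCommGrpCat.{u}).map
        (Functor.whiskerLeft (Over.forget U).op φ))).symm

theorem toCech₀_cechRefine (P : Cᵒᵖ ⥤ AddCommGrpCat.{u}) :
    toCech₀ P Y' ≫ (CohCx.cechRefine P f).f 0 = toCech₀ P Y := by
  apply Pi.hom_ext
  intro i
  erw [Category.assoc]
  change toCech₀ P Y' ≫ ((FormalCoproduct.evalOp.{u} (Over U) AddCommGrpCat.{u}).obj
    ((Over.forget U).op ⋙ P)).map ((FormalCoproduct.cechFunctor.map f).app (op (SimplexCategory.mk 0))).op ≫ _ = _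
  erw [FormalCoproduct.evalOp_obj_map, Pi.lift_π, Pi.lift_π_assoc, Pi.lift_π]
  change P.map _ ≫ P.map _ = P.map _
  refine (P.map_comp _ _).symm.trans (congrArg P.map ?_)
  exact congrArg Quiver.Hom.op (Over.w _)

/-- Refinement on Cech cohomology. -/
abbrev refineH (P : Cᵒᵖ ⥤ AddCommGrpCat.{u}) (p : ℕ) : CohCx.cechH P Y' p ⟶ CohCx.cechH P Y p :=
  HomologicalComplex.homologyMap (CohCx.cechRefine P f) p

theorem refineH_naturality {P Q : Cᵒᵖ ⥤ AddCommGrpCat.{u}} (φ : P ⟶ Q) (p : ℕ) :
    HomologicalComplex.homologyMap ((cxFunctor Y').map φ) p ≫ refineH f Q p =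
      refineH f P p ≫ HomologicalComplex.homologyMap ((cxFunctor Y).map φ) p :=
  (HomologicalComplex.homologyMap_comp ((cxFunctor Y').map φ) (CohCx.cechRefine Q f) p).symm.trans
    ((congrArg (fun g => HomologicalComplex.homologyMap g p) (cechRefine_naturality f φ).symm).trans
      (HomologicalComplex.homologyMap_comp (CohCx.cechRefine P f) ((cxFunctor Y).map φ) p))

/-- The refined family of comparison maps. -/
def refineFam (e : ∀ (P : Cᵒᵖ ⥤ AddCommGrpCat.{u}) (p : ℕ), CohCx.cechH P Y p →+ CohSite.HU (shf J P) p U)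
    (P : Cᵒᵖ ⥤ AddCommGrpCat.{u}) (p : ℕ) : CohCx.cechH P Y' p →+ CohSite.HU (shf J P) p U :=
  (e P p).comp (HomologicalComplex.homologyMap (CohCx.cechRefine P f) p).hom

set_option maxHeartbeats 2000000 in
theorem isEdge_refineFam
    {e : ∀ (P : Cᵒᵖ ⥤ AddCommGrpCat.{u}) (p : ℕ), CohCx.cechH P Y p →+ CohSite.HU (shf J P) p U}
    (he : IsEdge J Y e)
    (hY' : Sieve.ofArrows (fun i => (Y' i).left) (fun i => (Y' i).hom) ∈ J U) :
    IsEdge J Y' (refineFam f e) where
  cover := hY'
  zero P s := by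
    show e P 0 (HomologicalComplex.homologyMap (CohCx.cechRefine P f) 0 (toCech Y' P s)) = _
    rw [← he.zero P s]
    refine congrArg (e P 0) ?_
    rw [toCech_apply, toCech_apply]
    refine (ConcreteCategory.congr_hom
      (HomologicalComplex.homologyπ_naturality (CohCx.cechRefine P f) 0) _).trans ?_
    refine congrArg ((cx P Y).homologyπ 0) (injective_iCycles Y P 0 ?_)
    rw [iCycles_toCycles]
    refine (ConcreteCategory.congr_hom (HomologicalComplex.cyclesMap_i (CohCx.cechRefine P f) 0) _).trans ?_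
    exact ((congrArg ((CohCx.cechRefine P f).f 0) (iCycles_toCycles Y' P s)).trans
      (ConcreteCategory.congr_hom (toCech₀_cechRefine f P) s))
  natural P Q φ p x := by
    show e Q p (refineH f Q p (cechHMap Y' φ p x)) = HUmap (shfMap J φ) p U (e P p (refineH f P p x))
    exact (congrArg (e Q p) (ConcreteCategory.congr_hom (refineH_naturality f φ p) x)).trans
      (he.natural P Q φ p (refineH f P p x))
  delta S hS hC p x := by
    show e S.X₁ (p + 1) (HomologicalComplex.homologyMap (CohCx.cechRefine S.X₁ f) (p + 1)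
      ((hC.δ p (p + 1) rfl).hom x)) = extδ (hS.map_of_exact (presheafToSheaf J AddCommGrpCat.{u})) U p
        (e S.X₃ p (HomologicalComplex.homologyMap (CohCx.cechRefine S.X₃ f) p x))
    refine Eq.trans (congrArg (e S.X₁ (p + 1)) ?_) (edge_delta he hS p _)
    exact ConcreteCategory.congr_hom (HomologicalComplex.HomologySequence.δ_naturality
      (ShortComplex.homMk (CohCx.cechRefine S.X₁ f) (CohCx.cechRefine S.X₂ f) (CohCx.cechRefine S.X₃ f)
        (cechRefine_naturality f S.f) (cechRefine_naturality f S.g) :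
        S.map (cxFunctor Y') ⟶ S.map (cxFunctor Y)) hC (cx_shortExact Y hS) p (p + 1) rfl) x

end Groth.Agent.Lib.CechEdge
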