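import Groth.Agent.Lib.CechEdge.Edge
import Groth.Agent.Lib.SiteCoh.Acyclic
import Groth.Agent.Lib.CechPsh.ShortExact

/-!
# The comparison maps for abelian sheaves
-/

set_option autoImplicit false
universe u

open CategoryTheory CategoryTheory.Limits Opposite Abelian

noncomputable section

namespace Groth.Agent.Lib.CechEdge

open _root_.CechEdge (shf shfMap HUmap sectH0 extδ edgeSh IsEdge cechHMap)
open Groth.Agent.Lib.CechPsh.Vanish (prd)

variable {C : Type u} [SmallCategory C] {J : GrothendieckTopology C}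

/-- The counit of sheafification. -/
abbrev eps (F : Sheaf J AddCommGrpCat.{u}) : shf J F.obj ⟶ F :=
  (sheafificationAdjunction J AddCommGrpCat.{u}).counit.app F

/-- An embedding of a sheaf into an injective one. -/
abbrev embSh (F : Sheaf J AddCommGrpCat.{u}) : ShortComplex (Sheaf J AddCommGrpCat.{u}) :=
  ShortComplex.mk (Injective.ι F) (cokernel.π (Injective.ι F)) (cokernel.condition _)

theorem embSh_shortExact (F : Sheaf J AddCommGrpCat.{u}) : (embSh F).ShortExact :=
  { exact := ShortComplex.exact_of_g_is_cokernel _ (cokernelIsCokernel _)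
    mono_f := by dsimp [embSh]; infer_instance
    epi_g := by dsimp [embSh]; infer_instance }

instance (F : Sheaf J AddCommGrpCat.{u}) : Injective (embSh F).X₂ := by
  dsimp [embSh]; infer_instance

/-- The presheaf sequence below a sequence of sheaves. -/
abbrev pSeq (F : Sheaf J AddCommGrpCat.{u}) : ShortComplex (Cᵒᵖ ⥤ AddCommGrpCat.{u}) :=
  ShortComplex.mk (X₁ := F.obj) (X₂ := (embSh F).X₂.obj) (Injective.ι F).hom (cokernel.π (Injective.ι F).hom) (cokernel.condition _)

theorem pSeq_shortExact (F : Sheaf J AddCommGrpCat.{u}) : (pSeq F).ShortExact :=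
  { exact := ShortComplex.exact_of_g_is_cokernel _ (cokernelIsCokernel _)
    mono_f := inferInstanceAs (Mono ((sheafToPresheaf J AddCommGrpCat.{u}).map (Injective.ι F)))
    epi_g := by dsimp [pSeq]; infer_instance }

theorem injective_pSeq (F : Sheaf J AddCommGrpCat.{u}) : Injective (pSeq F).X₂ :=
  Injective.injective_of_adjoint (sheafificationAdjunction J AddCommGrpCat.{u}) (embSh F).X₂

/-- The comparison of the quotient presheaf with the quotient sheaf. -/
def qmap (F : Sheaf J AddCommGrpCat.{u}) : (pSeq F).X₃ ⟶ (embSh F).X₃.obj :=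
  cokernel.desc _ (cokernel.π (Injective.ι F)).hom (by
    have := congrArg (fun f => f.hom) (cokernel.condition (Injective.ι F))
    exact this)

theorem π_qmap (F : Sheaf J AddCommGrpCat.{u}) : (pSeq F).g ≫ qmap F = (embSh F).g.hom :=
  cokernel.π_desc _ _ _

theorem pSeq_g_surjective (F : Sheaf J AddCommGrpCat.{u}) (W : Cᵒᵖ) :
    Function.Surjective ((pSeq F).g.app W) := by
  have := (pSeq_shortExact F).epi_g
  exact (AddCommGrpCat.epi_iff_surjective _).1 inferInstance

theorem qmap_app_g (F : Sheaf J AddCommGrpCat.{u}) (W : Cᵒᵖ) (t) :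
    (qmap F).app W ((pSeq F).g.app W t) = (embSh F).g.hom.app W t :=
  ConcreteCategory.congr_hom (NatTrans.congr_app (π_qmap F) W) t

theorem qmap_injective (F : Sheaf J AddCommGrpCat.{u}) (W : Cᵒᵖ) :
    Function.Injective ((qmap F).app W) := by
  refine (injective_iff_map_eq_zero _).2 fun z hz => ?_
  obtain ⟨t, rfl⟩ := pSeq_g_surjective F W z
  rw [qmap_app_g] at hz
  obtain ⟨a, rfl⟩ :=
    (Groth.Agent.Lib.CechPsh.ShortExact.app_left_exact (embSh_shortExact F) W).2.2 t hz
  exact ConcreteCategory.congr_hom (NatTrans.congr_app (pSeq F).zero W) a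

theorem qmap_surjective (F : Sheaf J AddCommGrpCat.{u}) (V : C) (h : Subsingleton (CohSite.HU F 1 V)) :
    Function.Surjective ((qmap F).app (op V)) := fun z => by
  obtain ⟨t, rfl⟩ := Groth.Agent.Lib.SiteCoh.Acyclic.surjective_app_of_subsingleton (embSh_shortExact F) h z
  exact ⟨_, qmap_app_g F _ t⟩

/-- The quotient of an embedding of an acyclic sheaf is acyclic. -/
theorem acyclic_embSh (F : Sheaf J AddCommGrpCat.{u}) (V : C) (q : ℕ)
    (h : Subsingleton (CohSite.HU F (q + 1 + 1) V)) : Subsingleton (CohSite.HU (embSh F).X₃ (q + 1) V) := by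
  refine subsingleton_of_forall_eq 0 fun y => ?_
  obtain ⟨x, hx⟩ := Ext.covariant_sequence_exact₃ (CohCx.freeSheaf J V) (embSh_shortExact F)
    (y : Ext (CohCx.freeSheaf J V) (embSh F).X₃ (q + 1)) rfl (@Subsingleton.elim _ h _ _)
  refine hx.symm.trans ?_
  rw [Ext.eq_zero_of_injective x, Ext.zero_comp]
  rfl

/-- The map from the sheafified presheaf sequence to the sheaf sequence. -/
def toEmbSh (F : Sheaf J AddCommGrpCat.{u}) :
    (pSeq F).map (presheafToSheaf J AddCommGrpCat.{u}) ⟶ embSh F where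
  τ₁ := eps F
  τ₂ := eps (embSh F).X₂
  τ₃ := shfMap J (qmap F) ≫ eps (embSh F).X₃
  comm₁₂ := ((sheafificationAdjunction J AddCommGrpCat.{u}).counit.naturality (embSh F).f).symm
  comm₂₃ := by
    show eps (embSh F).X₂ ≫ (embSh F).g = shfMap J (pSeq F).g ≫ shfMap J (qmap F) ≫ eps (embSh F).X₃
    rw [← Category.assoc, ← Functor.map_comp, π_qmap]
    exact ((sheafificationAdjunction J AddCommGrpCat.{u}).counit.naturality (embSh F).g).symm

variable [HasPullbacks C] {U : C} {ι : Type u} {Y : ι → Over U}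
  {e : ∀ (P : Cᵒᵖ ⥤ AddCommGrpCat.{u}) (p : ℕ), CohCx.cechH P Y p →+ CohSite.HU (shf J P) p U}

theorem edgeSh_natural (he : IsEdge J Y e) {F G : Sheaf J AddCommGrpCat.{u}} (g : F ⟶ G) (p : ℕ)
    (x : CohCx.cechH F.obj Y p) :
    edgeSh e G p (cechHMap Y g.hom p x) = HUmap g p U (edgeSh e F p x) := by
  show HUmap (eps G) p U (e G.obj p (cechHMap Y g.hom p x)) = HUmap g p U (HUmap (eps F) p U (e F.obj p x))
  rw [he.natural, ← HUmap_comp, ← HUmap_comp]
  exact DFunLike.congr_fun (congrArg (fun ψ => HUmap ψ p U)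
    ((sheafificationAdjunction J AddCommGrpCat.{u}).counit.naturality g)) _

theorem edgeSh_delta (he : IsEdge J Y e) (F : Sheaf J AddCommGrpCat.{u}) (p : ℕ)
    (y : CohCx.cechH (pSeq F).X₃ Y p) :
    edgeSh e F (p + 1) (cδ Y (pSeq_shortExact F) p y) =
      extδ (embSh_shortExact F) U p (edgeSh e (embSh F).X₃ p (cechHMap Y (qmap F) p y)) := by
  show HUmap (eps F) (p + 1) U (e (pSeq F).X₁ (p + 1) (cδ Y (pSeq_shortExact F) p y)) =
    extδ (embSh_shortExact F) U p
      (HUmap (eps (embSh F).X₃) p U (e (embSh F).X₃.obj p (cechHMap Y (qmap F) p y)))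
  refine (congrArg (HUmap (eps F) (p + 1) U) (edge_delta he (pSeq_shortExact F) p y)).trans ?_
  refine (extδ_naturality ((pSeq_shortExact F).map_of_exact (presheafToSheaf J AddCommGrpCat.{u}))
    (embSh_shortExact F) (toEmbSh F) U p (e (pSeq F).X₃ p y)).trans ?_
  refine congrArg _ ?_
  rw [he.natural]
  exact HUmap_comp (shfMap J (qmap F)) (eps (embSh F).X₃) p U _

theorem exists_cδ (F : Sheaf J AddCommGrpCat.{u}) (p : ℕ) (x : CohCx.cechH F.obj Y (p + 1)) :
    ∃ y, cδ Y (pSeq_shortExact F) p y = x := by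
  have := injective_pSeq F
  have h := (cx_shortExact Y (pSeq_shortExact F)).homology_exact₁ p (p + 1) rfl
  exact (ShortComplex.ab_exact_iff _).1 h x
    ((AddCommGrpCat.subsingleton_of_isZero
      (Groth.Agent.Lib.CechPsh.Vanish.isZero_cechH Y (pSeq F).X₂ p)).elim _ _)

theorem extδ_eq_zero {S : ShortComplex (Sheaf J AddCommGrpCat.{u})} (hS : S.ShortExact) (V : C) (p : ℕ)
    (w : CohSite.HU S.X₃ p V) (hw : extδ hS V p w = 0) : ∃ t, HUmap S.g p V t = w :=
  Ext.covariant_sequence_exact₃ (CohCx.freeSheaf J V) hS w rfl hw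

/-- In degree one the comparison map is injective. -/
theorem edgeSh_one_injective (he : IsEdge J Y e) (F : Sheaf J AddCommGrpCat.{u}) :
    Function.Injective (edgeSh e F 1) := by
  refine (injective_iff_map_eq_zero _).2 fun x hx => ?_
  obtain ⟨y, rfl⟩ := exists_cδ F 0 x
  rw [edgeSh_delta he] at hx
  obtain ⟨t, ht⟩ := extδ_eq_zero (embSh_shortExact F) U 0 _ hx
  obtain ⟨z, rfl⟩ := (edgeSh_zero_bijective he (embSh F).X₂).2 t
  rw [← edgeSh_natural he] at ht
  have h1 := (edgeSh_zero_bijective he (embSh F).X₃).1 ht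
  rw [← π_qmap, cechHMap_comp] at h1
  rw [← cechHMap_zero_injective Y (qmap F) (fun i => qmap_injective F _) h1]
  exact cδ_comp (pSeq_shortExact F) 0 z

theorem edgeSh_bijective (he : IsEdge J Y e) (p : ℕ) : ∀ F : Sheaf J AddCommGrpCat.{u},
    (∀ (n : ℕ) (a : Fin (n + 1) → ι) (q : ℕ), Subsingleton (CohSite.HU F (q + 1) (∏ᶜ fun k => Y (a k)).left)) →
      Function.Bijective (edgeSh e F p) := by
  induction p with
  | zero => exact fun F _ => edgeSh_zero_bijective he F
  | succ p ih =>
    intro F hF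
    have hq : Function.Bijective (cechHMap Y (qmap F) p) :=
      cechHMap_bijective Y (qmap F) (fun n i => ⟨qmap_injective F _, qmap_surjective F _ (hF n i 0)⟩) p
    have hG := ih (embSh F).X₃ fun n a q => acyclic_embSh F _ q (hF n a (q + 1))
    constructor
    · refine (injective_iff_map_eq_zero _).2 fun x hx => ?_
      obtain ⟨y, rfl⟩ := exists_cδ F p x
      rw [edgeSh_delta he] at hx
      obtain ⟨t, ht⟩ := extδ_eq_zero (embSh_shortExact F) U p _ hx
      cases p with
      | zero =>
        obtain ⟨z, rfl⟩ := (edgeSh_zero_bijective he (embSh F).X₂).2 t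
        rw [← edgeSh_natural he] at ht
        have h1 := hG.1 ht
        rw [← π_qmap, cechHMap_comp] at h1
        rw [← hq.1 h1]
        exact cδ_comp (pSeq_shortExact F) 0 z
      | succ p =>
        have ht0 : t = 0 :=
          Ext.eq_zero_of_injective (t : Ext (CohCx.freeSheaf J U) (embSh F).X₂ (p + 1))
        rw [ht0, map_zero] at ht
        have h1 : cechHMap Y (qmap F) (p + 1) y = 0 := hG.1 (ht.symm.trans (map_zero _).symm)
        rw [hq.1 (h1.trans (map_zero _).symm), map_zero]
    · intro z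
      obtain ⟨w, hw⟩ : ∃ w, extδ (embSh_shortExact F) U p w = z :=
        Ext.covariant_sequence_exact₁ (CohCx.freeSheaf J U) (embSh_shortExact F) z
          (Ext.eq_zero_of_injective _) rfl
      obtain ⟨v, rfl⟩ := hG.2 w
      obtain ⟨y, rfl⟩ := hq.2 v
      exact ⟨cδ Y (pSeq_shortExact F) p y, (edgeSh_delta he F p y).trans hw⟩

end Groth.Agent.Lib.CechEdge
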