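import Groth.Agent.Lib.CechEdge.Basic

/-!
# The comparison map from Cech cohomology in degree zero
-/

set_option autoImplicit false
universe u

open CategoryTheory CategoryTheory.Limits Opposite Abelian

noncomputable section

namespace Groth.Agent.Lib.CechEdge

open _root_.CechEdge (shf shfMap HUmap sectH0 extδ edgeSh IsEdge)

variable {C : Type u} [SmallCategory C] {J : GrothendieckTopology C}

theorem HUmap_apply {F G : Sheaf J AddCommGrpCat.{u}} (ψ : F ⟶ G) (p : ℕ) (U : C) (x : CohSite.HU F p U) :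
    HUmap ψ p U x = (x : Ext (CohCx.freeSheaf J U) F p).comp (Ext.mk₀ ψ) (add_zero p) :=
  rfl

theorem HUmap_comp {F G H : Sheaf J AddCommGrpCat.{u}} (ψ : F ⟶ G) (χ : G ⟶ H) (p : ℕ) (U : C)
    (x : CohSite.HU F p U) : HUmap (ψ ≫ χ) p U x = HUmap χ p U (HUmap ψ p U x) := by
  rw [HUmap_apply, HUmap_apply, HUmap_apply, ← Ext.mk₀_comp_mk₀]
  exact (Ext.comp_assoc_of_second_deg_zero _ _ _ _).symm

theorem HUmap_id {F : Sheaf J AddCommGrpCat.{u}} (p : ℕ) (U : C) (x : CohSite.HU F p U) :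
    HUmap (𝟙 F) p U x = x := by
  rw [HUmap_apply]
  exact Ext.comp_mk₀_id _

theorem HUmap_bijective {F G : Sheaf J AddCommGrpCat.{u}} (ψ : F ⟶ G) [IsIso ψ] (p : ℕ) (U : C) :
    Function.Bijective (HUmap ψ p U) :=
  Function.bijective_iff_has_inverse.2 ⟨HUmap (inv ψ) p U,
    fun x => by rw [← HUmap_comp, IsIso.hom_inv_id, HUmap_id],
    fun x => by rw [← HUmap_comp, IsIso.inv_hom_id, HUmap_id]⟩

theorem sectH0_apply (U : C) (F : Sheaf J AddCommGrpCat.{u}) (s : F.obj.obj (op U)) :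
    sectH0 J U F s = Ext.mk₀ ((CohFree.homEquivSect J U F).symm s) :=
  rfl

theorem HUmap_sectH0 {F G : Sheaf J AddCommGrpCat.{u}} (ψ : F ⟶ G) (U : C) (s : F.obj.obj (op U)) :
    HUmap ψ 0 U (sectH0 J U F s) = sectH0 J U G (ψ.hom.app (op U) s) := by
  rw [HUmap_apply, sectH0_apply, sectH0_apply, Ext.mk₀_comp_mk₀]
  refine congrArg _ ((CohFree.homEquivSect J U G).eq_symm_apply.2 ?_)
  conv_rhs => rw [← (CohFree.homEquivSect J U F).apply_symm_apply s]
  rfl

/-- The map to the associated sheaf of a presheaf. -/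
abbrev eta (J : GrothendieckTopology C) (P : Cᵒᵖ ⥤ AddCommGrpCat.{u}) : P ⟶ (shf J P).obj := toSheafify J P

theorem eta_naturality {P Q : Cᵒᵖ ⥤ AddCommGrpCat.{u}} (φ : P ⟶ Q) :
    φ ≫ eta J Q = eta J P ≫ (shfMap J φ).hom :=
  toSheafify_naturality J φ

theorem eta_counit (F : Sheaf J AddCommGrpCat.{u}) :
    eta J F.obj ≫ ((sheafificationAdjunction J AddCommGrpCat.{u}).counit.app F).hom = 𝟙 F.obj :=
  (sheafificationAdjunction J AddCommGrpCat.{u}).right_triangle_components F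

/-- The associated sheaf of the map to the associated sheaf is an isomorphism. -/
theorem isIso_shfMap_eta (P : Cᵒᵖ ⥤ AddCommGrpCat.{u}) :
    IsIso (shfMap J (eta J P)) ∧ (shfMap J (eta J P)).hom = eta J (shf J P).obj := by
  have h : (shfMap J (eta J P)).hom = eta J (shf J P).obj :=
    sheafify_hom_ext J _ _ (shf J (shf J P).obj).property (toSheafify_naturality J (eta J P)).symm
  refine ⟨?_, h⟩
  have : IsIso ((sheafToPresheaf J AddCommGrpCat.{u}).map (shfMap J (eta J P))) := by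
    change IsIso (shfMap J (eta J P)).hom
    rw [h]
    exact isIso_toSheafify J (shf J P).property
  exact isIso_of_reflects_iso _ (sheafToPresheaf J AddCommGrpCat.{u})

variable [HasPullbacks C] {U : C} {ι : Type u} {Y : ι → Over U}

variable (J) in
/-- The degree zero comparison map. -/
def e0 (hY : Sieve.ofArrows (fun i => (Y i).left) (fun i => (Y i).hom) ∈ J U)
    (P : Cᵒᵖ ⥤ AddCommGrpCat.{u}) : CohCx.cechH P Y 0 →+ CohSite.HU (shf J P) 0 U :=
  ((sectH0 J U (shf J P)).toAddMonoidHom.comp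
    (AddEquiv.ofBijective (_root_.CechEdge.toCech Y (shf J P).obj)
      (toCech_bijective_of_isSheaf Y J (shf J P).property hY)).symm.toAddMonoidHom).comp
    (_root_.CechEdge.cechHMap Y (eta J P) 0)

variable (hY : Sieve.ofArrows (fun i => (Y i).left) (fun i => (Y i).hom) ∈ J U)

include hY in
theorem exists_section (P : Cᵒᵖ ⥤ AddCommGrpCat.{u}) (x : CohCx.cechH P Y 0) :
    ∃ s, _root_.CechEdge.cechHMap Y (eta J P) 0 x = _root_.CechEdge.toCech Y (shf J P).obj s ∧
      e0 J hY P x = sectH0 J U (shf J P) s := by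
  obtain ⟨s, hs⟩ := (toCech_bijective_of_isSheaf Y J (shf J P).property hY).2
    (_root_.CechEdge.cechHMap Y (eta J P) 0 x)
  refine ⟨s, hs.symm, ?_⟩
  show sectH0 J U (shf J P) ((AddEquiv.ofBijective (_root_.CechEdge.toCech Y (shf J P).obj)
    (toCech_bijective_of_isSheaf Y J (shf J P).property hY)).symm
      (_root_.CechEdge.cechHMap Y (eta J P) 0 x)) = _
  rw [← hs]
  exact congrArg _ (AddEquiv.symm_apply_apply _ s)

include hY in
theorem e0_toCech (P : Cᵒᵖ ⥤ AddCommGrpCat.{u}) (s : P.obj (op U)) :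
    e0 J hY P (_root_.CechEdge.toCech Y P s) = sectH0 J U (shf J P) (((toSheafify J P).app (op U)).hom s) := by
  obtain ⟨t, ht, he⟩ := exists_section hY P (_root_.CechEdge.toCech Y P s)
  rw [cechHMap_toCech] at ht
  rw [he, ← (toCech_bijective_of_isSheaf Y J (shf J P).property hY).1 ht]

include hY in
theorem e0_natural {P Q : Cᵒᵖ ⥤ AddCommGrpCat.{u}} (φ : P ⟶ Q) (x : CohCx.cechH P Y 0) :
    e0 J hY Q (_root_.CechEdge.cechHMap Y φ 0 x) = HUmap (shfMap J φ) 0 U (e0 J hY P x) := by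
  obtain ⟨s, hs, he⟩ := exists_section hY P x
  obtain ⟨t, ht, he'⟩ := exists_section hY Q (_root_.CechEdge.cechHMap Y φ 0 x)
  rw [he, he', HUmap_sectH0]
  rw [← cechHMap_comp, eta_naturality, cechHMap_comp, hs, cechHMap_toCech] at ht
  rw [(toCech_bijective_of_isSheaf Y J (shf J Q).property hY).1 ht]

/-- Every edge family is `e0` in degree zero. -/
theorem edge_zero {e : ∀ (P : Cᵒᵖ ⥤ AddCommGrpCat.{u}) (p : ℕ), CohCx.cechH P Y p →+ CohSite.HU (shf J P) p U}
    (he : IsEdge J Y e) (P : Cᵒᵖ ⥤ AddCommGrpCat.{u}) (x : CohCx.cechH P Y 0) :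
    e P 0 x = e0 J he.cover P x := by
  obtain ⟨s, hs, h⟩ := exists_section he.cover P x
  obtain ⟨hi, hη⟩ := isIso_shfMap_eta (J := J) P
  apply (HUmap_bijective (shfMap J (eta J P)) 0 U).1
  rw [← he.natural, hs, he.zero, h, HUmap_sectH0, hη]

/-- On a sheaf the comparison map in degree zero is restriction of sections. -/
theorem edgeSh_toCech {e : ∀ (P : Cᵒᵖ ⥤ AddCommGrpCat.{u}) (p : ℕ), CohCx.cechH P Y p →+ CohSite.HU (shf J P) p U}
    (he : IsEdge J Y e) (F : Sheaf J AddCommGrpCat.{u}) (s : F.obj.obj (op U)) :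
    edgeSh e F 0 (_root_.CechEdge.toCech Y F.obj s) = sectH0 J U F s := by
  show HUmap _ 0 U (e F.obj 0 _) = _
  rw [he.zero, HUmap_sectH0]
  exact congrArg _ (ConcreteCategory.congr_hom (NatTrans.congr_app (eta_counit F) (op U)) s)

theorem edgeSh_zero_bijective {e : ∀ (P : Cᵒᵖ ⥤ AddCommGrpCat.{u}) (p : ℕ), CohCx.cechH P Y p →+ CohSite.HU (shf J P) p U}
    (he : IsEdge J Y e) (F : Sheaf J AddCommGrpCat.{u}) : Function.Bijective (edgeSh e F 0) := by
  have hb := toCech_bijective_of_isSheaf Y J F.property he.cover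
  constructor
  · intro x y h
    obtain ⟨s, rfl⟩ := hb.2 x
    obtain ⟨t, rfl⟩ := hb.2 y
    rw [edgeSh_toCech he, edgeSh_toCech he] at h
    rw [(sectH0 J U F).injective h]
  · intro z
    exact ⟨_root_.CechEdge.toCech Y F.obj ((sectH0 J U F).symm z), by
      rw [edgeSh_toCech he, AddEquiv.apply_symm_apply]⟩

end Groth.Agent.Lib.CechEdge
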